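import Groth.Agent.Lib.OT67.RankMul
import Mathlib.AlgebraicGeometry.Morphisms.FlatRank
import Mathlib.AlgebraicGeometry.Morphisms.ClosedImmersion

/-!
# Ranks of finite flat morphisms over an affine base

* `finrank_comp`: ranks multiply;
* `isIso_of_isClosedImmersion`: a closed immersion between finite flat schemes of the same rank is an isomorphism.
-/

set_option autoImplicit false
universe u

open CategoryTheory CategoryTheory.Limits AlgebraicGeometry

namespace Groth.Agent.Lib.FinLocFreeRank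

attribute [local instance] Module.free_of_flat_of_isLocalRing

/-- A surjection of finite flat modules of the same rank is bijective. -/
theorem bijective_of_surjective {R : Type u} {B A : Type u} [CommRing R] [AddCommGroup B] [Module R B]
    [AddCommGroup A] [Module R A] [Module.Finite R B] [Module.Flat R B] [Module.Finite R A] [Module.Flat R A]
    (f : B →ₗ[R] A) (hf : Function.Surjective f)
    (hr : ∀ p : PrimeSpectrum R, Module.rankAtStalk B p = Module.rankAtStalk A p) : Function.Bijective f := by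
  refine bijective_of_localized_maximal f fun J _ => ?_
  have hs : Function.Surjective (LocalizedModule.map J.primeCompl f) :=
    LocalizedModule.map_surjective _ f hf
  refine ⟨?_, hs⟩
  let e : LocalizedModule J.primeCompl B ≃ₗ[Localization J.primeCompl] LocalizedModule J.primeCompl A :=
    LinearEquiv.ofFinrankEq _ _ (hr ⟨J, inferInstance⟩)
  have h := OrzechProperty.injective_of_surjective_endomorphism
    (e.symm.toLinearMap ∘ₗ LocalizedModule.map J.primeCompl f) (e.symm.surjective.comp hs)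
  exact Function.Injective.of_comp h

/-- Ranks of finite flat morphisms multiply. -/
theorem finrank_comp {X Y : Scheme.{u}} {R : CommRingCat.{u}} (f : X ⟶ Y) (g : Y ⟶ Spec R)
    [IsFinite f] [Flat f] [IsFinite g] [Flat g] (d : ℕ) (hf : ∀ y, f.finrank y = d) (z : Spec R) :
    (f ≫ g).finrank z = d * g.finrank z := by
  have : IsAffine Y := isAffine_of_isAffineHom g
  have : IsAffine X := isAffine_of_isAffineHom f
  let f₁ := X.isoSpec.inv ≫ f ≫ Y.isoSpec.hom
  let g₁ := Y.isoSpec.inv ≫ g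
  have h1 : g.finrank z = g₁.finrank z := by rw [Scheme.Hom.finrank_comp_left_of_isIso]
  have h2 : (f ≫ g).finrank z = (f₁ ≫ g₁).finrank z := by
    rw [show f₁ ≫ g₁ = X.isoSpec.inv ≫ f ≫ g by simp [f₁, g₁]]
    exact (congrFun (Scheme.Hom.finrank_comp_left_of_isIso X.isoSpec.inv (f ≫ g)) z).symm
  have h3 : ∀ y, f₁.finrank y = d := fun y => by
    rw [Scheme.Hom.finrank_comp_left_of_isIso X.isoSpec.inv (f ≫ Y.isoSpec.hom)]
    have hsq : IsPullback (𝟙 X) f (f ≫ Y.isoSpec.hom) Y.isoSpec.hom := IsPullback.of_horiz_isIso ⟨by simp⟩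
    obtain ⟨y', rfl⟩ := Y.isoSpec.hom.surjective y
    rw [← Scheme.Hom.finrank_of_isPullback _ _ _ _ hsq y', hf]
  obtain ⟨φ, hφ⟩ := Spec.map_surjective f₁
  obtain ⟨ψ, hψ⟩ := Spec.map_surjective g₁
  have hφ1 : φ.hom.Finite := by rw [← IsFinite.SpecMap_iff, hφ]; infer_instance
  have hφ2 : φ.hom.Flat := by rw [← Flat.SpecMap_iff, hφ]; infer_instance
  have hψ1 : ψ.hom.Finite := by rw [← IsFinite.SpecMap_iff, hψ]; infer_instance
  have hψ2 : ψ.hom.Flat := by rw [← Flat.SpecMap_iff, hψ]; infer_instance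
  rw [h1, h2, ← hφ, ← hψ, ← Spec.map_comp,
    Scheme.Hom.finrank_SpecMap_eq_finrank (f := ψ ≫ φ) (hφ1.comp hψ1) (hψ2.comp hφ2),
    Scheme.Hom.finrank_SpecMap_eq_finrank hψ1 hψ2]
  simp only [← hφ, Scheme.Hom.finrank_SpecMap_eq_finrank hφ1 hφ2] at h3
  have hc1 : (φ.hom.comp ψ.hom).Finite := hφ1.comp hψ1
  have hc2 : (φ.hom.comp ψ.hom).Flat := hψ2.comp hφ2
  algebraize [ψ.hom, φ.hom, φ.hom.comp ψ.hom]
  exact OT67.rankAtStalk_eq_mul z d fun Q _ => h3 Q

/-- A closed immersion between finite flat schemes of the same rank is an isomorphism. -/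
theorem isIso_of_isClosedImmersion {X Y : Scheme.{u}} {R : CommRingCat.{u}} (i : X ⟶ Y) (g : Y ⟶ Spec R)
    [IsClosedImmersion i] [IsFinite g] [Flat g] [Flat (i ≫ g)] (hr : ∀ z, (i ≫ g).finrank z = g.finrank z) :
    IsIso i := by
  have : IsAffine Y := isAffine_of_isAffineHom g
  have : IsAffine X := isAffine_of_isAffineHom i
  let i₁ := X.isoSpec.inv ≫ i ≫ Y.isoSpec.hom
  let g₁ := Y.isoSpec.inv ≫ g
  have h2 : (i₁ ≫ g₁) = X.isoSpec.inv ≫ i ≫ g := by simp [i₁, g₁]
  suffices IsIso i₁ by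
    have e : i = X.isoSpec.hom ≫ i₁ ≫ Y.isoSpec.inv := by simp [i₁]
    rw [e]; infer_instance
  obtain ⟨φ, hφ⟩ := Spec.map_surjective i₁
  obtain ⟨ψ, hψ⟩ := Spec.map_surjective g₁
  have hφs : Function.Surjective φ.hom := by
    have : IsClosedImmersion (Spec.map φ) := by rw [hφ]; infer_instance
    have h := (IsClosedImmersion.isAffine_surjective_of_isAffine (Spec.map φ)).2
    have hn := Scheme.ΓSpecIso_naturality φ
    intro x
    obtain ⟨y, hy⟩ := h ((Scheme.ΓSpecIso _).inv x)
    refine ⟨(Scheme.ΓSpecIso _).hom y, ?_⟩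
    have h5 := ConcreteCategory.congr_hom hn y
    simp only [CommRingCat.comp_apply] at h5
    rw [← h5]
    simp [hy]
  have hψ1 : ψ.hom.Finite := by rw [← IsFinite.SpecMap_iff, hψ]; infer_instance
  have hψ2 : ψ.hom.Flat := by rw [← Flat.SpecMap_iff, hψ]; infer_instance
  have hc1 : (ψ ≫ φ).hom.Finite := (RingHom.Finite.of_surjective _ hφs).comp hψ1
  have hc2 : (ψ ≫ φ).hom.Flat := by
    rw [← Flat.SpecMap_iff, Spec.map_comp, hφ, hψ, h2]; infer_instance
  have hr' : ∀ z, (ψ ≫ φ).hom.finrank z = ψ.hom.finrank z := fun z => by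
    rw [← Scheme.Hom.finrank_SpecMap_eq_finrank hc1 hc2, ← Scheme.Hom.finrank_SpecMap_eq_finrank hψ1 hψ2]
    rw [Spec.map_comp, hφ, hψ, h2, Scheme.Hom.finrank_comp_left_of_isIso X.isoSpec.inv (i ≫ g),
      Scheme.Hom.finrank_comp_left_of_isIso Y.isoSpec.inv g, hr z]
  have hd1 : (φ.hom.comp ψ.hom).Finite := hc1
  have hd2 : (φ.hom.comp ψ.hom).Flat := hc2
  algebraize [ψ.hom, φ.hom, φ.hom.comp ψ.hom]
  have hb : Function.Bijective φ.hom :=
    bijective_of_surjective (IsScalarTower.toAlgHom R Γ(Y, ⊤) Γ(X, ⊤)).toLinearMap hφs fun p => (hr' p).symm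
  have : IsIso φ := (ConcreteCategory.isIso_iff_bijective φ).2 hb
  rw [← hφ]
  infer_instance

end Groth.Agent.Lib.FinLocFreeRank
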